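import Groth.Agent.L28.Ph.Cover
import Groth.Agent.S7190
import Groth.Agent.L27.Fppf.Elem
import Groth.Prelude.Def_BigSite
import Groth.Prelude.Def_HTop

/-!
# The ph topology against the étale topology
-/

universe u

open CategoryTheory CategoryTheory.Limits AlgebraicGeometry Opposite

set_option autoImplicit false
set_option backward.isDefEq.respectTransparency false
set_option backward.isDefEq.respectTransparency.types false
set_option linter.style.haveILetI false
set_option linter.unusedSectionVars false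

namespace Groth.L23.PhCmp

theorem fppfPrecoverage_le_phPrecoverage : Scheme.fppfPrecoverage ≤ HTop.phPrecoverage.{u} := fun T R hR => by
  obtain ⟨𝒰, rfl⟩ := Scheme.exists_cover_of_mem_pretopology hR
  exact (HTop.presieve₀_mem_phPrecoverage_iff 𝒰.toPreZeroHypercover).2
    (Groth.Agent.S7190.result _ (fun i => (𝒰.map_prop i).1) (fun i => (𝒰.map_prop i).2)
      fun t => ⟨_, 𝒰.covers t⟩)

theorem etalePrecoverage_le_phPrecoverage : Scheme.etalePrecoverage ≤ HTop.phPrecoverage.{u} :=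
  BigSite.etalePrecoverage_le_fppfPrecoverage.trans fppfPrecoverage_le_phPrecoverage

instance epsCont_ph (S : Scheme.{u}) : BigSite.EpsCont Scheme.etalePrecoverage HTop.phPrecoverage S :=
  BigSite.epsCont_of_le etalePrecoverage_le_phPrecoverage S

instance aEtCont_ph (S : Scheme.{u}) : BigSite.AEtCont HTop.phPrecoverage S :=
  BigSite.aEtCont_of_le etalePrecoverage_le_phPrecoverage S

theorem isPhCover_id (T : Scheme.{u}) :
    HTop.IsPhCover (PreZeroHypercover.singleton.{u} (𝟙 T)) := by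
  refine ⟨fun _ => inferInstanceAs (LocallyOfFiniteType (𝟙 T)), fun V => ?_⟩
  haveI : IsAffine ((V : T.Opens) : Scheme.{u}) := V.2
  obtain ⟨F, hF, -⟩ := Groth.L28.Ph.exists_isStandardPh_of_local (T := ((V : T.Opens) : Scheme.{u})) (𝟙 _)
    (PreZeroHypercover.singleton.{u} (𝟙 _)) fun x => by
      obtain ⟨W, hW, hxW, -⟩ := exists_isAffineOpen_mem_and_subset (x := x) (U := ⊤) trivial
      exact ⟨W, hW, hxW, PUnit.unit, W.ι, rfl⟩
  exact ⟨F, hF, fun j => ⟨PUnit.unit, F.f j ≫ (V : T.Opens).ι, Category.comp_id _⟩⟩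

/-- sieves containing a ph covering family -/
def refTop : GrothendieckTopology Scheme.{u} where
  sieves T := {R | ∃ E : PreZeroHypercover.{u + 1} T, HTop.IsPhCover E ∧ ∀ i, R (E.f i)}
  top_mem' T := ⟨(PreZeroHypercover.singleton.{u} (𝟙 T)).shrink,
    (HTop.isPhCover_shrink_iff _).2 (isPhCover_id T), fun i => trivial⟩
  pullback_stable' T T' R g := by
    rintro ⟨E, hE, hR⟩
    refine ⟨E.pullback₁ g, Groth.L28.Ph.isPhCover_pullback₁ g hE, fun i => ?_⟩
    show R (pullback.fst g (E.f i) ≫ g)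
    rw [pullback.condition]
    exact R.downward_closed (hR i) _
  transitive' T S := by
    rintro ⟨E, hE, hS⟩ R h
    choose F hF hR using fun i => h (hS i)
    exact ⟨E.bind F, Groth.L28.Ph.isPhCover_bind hE hF, fun ij => hR ij.1 ij.2⟩

theorem exists_isPhCover_of_mem {T : Scheme.{u}} {R : Sieve T} (hR : R ∈ HTop.phTopology T) :
    ∃ E : PreZeroHypercover.{u + 1} T, HTop.IsPhCover E ∧ ∀ i, R (E.f i) := by
  have h : HTop.phPrecoverage.toGrothendieck ≤ refTop := by
    rw [Precoverage.toGrothendieck_le_iff_le_toPrecoverage]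
    intro T P hP
    obtain ⟨E, hE, rfl⟩ := PreZeroHypercoverFamily.mem_precoverage_iff.1 hP
    exact ⟨E, hE, fun i => ⟨_, 𝟙 _, _, Presieve.ofArrows.mk i, Category.id_comp _⟩⟩
  exact h T hR

/-- a ph covering sieve contains, over an affine neighbourhood of every point, a proper surjection, locally on its source -/
theorem exists_proper_of_mem {S : Scheme.{u}} {T : Over S} {R : Sieve T} (hR : R ∈ QuotSh.J HTop.phPrecoverage S T)
    (t : T.left) :
    ∃ (V : T.left.Opens) (P : Scheme.{u}) (h : P ⟶ (V : Scheme.{u})), t ∈ V ∧ IsProper h ∧ Surjective h ∧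
      ∀ x : P, ∃ W : P.Opens, x ∈ W ∧
        R (Over.homMk (W.ι ≫ h ≫ V.ι) rfl : Over.mk ((W.ι ≫ h ≫ V.ι) ≫ T.hom) ⟶ T) := by
  rw [GrothendieckTopology.mem_over_iff] at hR
  obtain ⟨E, hE, hRE⟩ := exists_isPhCover_of_mem hR
  obtain ⟨V, hV, htV, -⟩ := exists_isAffineOpen_mem_and_subset (X := T.left) (x := t) (U := ⊤) trivial
  obtain ⟨F, hF, href⟩ := hE.2 ⟨V, hV⟩
  obtain ⟨P, h, ι, hp, hs, hι, hfac, hcov⟩ := hF.exists_proper
  refine ⟨V, P, h, htV, hp, hs, fun x => ?_⟩
  obtain ⟨j, hj⟩ := hcov x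
  haveI := hι j
  refine ⟨(ι j).opensRange, hj, (Sieve.overEquiv_iff R _).1 ?_⟩
  obtain ⟨i, k, hk⟩ := href j
  have e : (ι j).opensRange.ι ≫ h ≫ V.ι = ((ι j).isoOpensRange.inv ≫ k) ≫ E.f i := by
    rw [Category.assoc, hk, ← hfac j, Category.assoc, Scheme.Hom.isoOpensRange_inv_comp_assoc]
  exact e ▸ (Sieve.overEquiv T R).downward_closed (hRE i) _

/-- a proper surjection, pulled back to any object, is covering -/
theorem section_sieve_mem {S X : Scheme.{u}} (f : X ⟶ S) [IsProper f] [Surjective f] (T : Over S) :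
    ∃ R ∈ QuotSh.J HTop.phPrecoverage S T, ∀ ⦃T' : Over S⦄ (a : T' ⟶ T), R a →
      ∃ s : T'.left ⟶ X, s ≫ f = T'.hom := by
  let R : Sieve T :=
    { arrows := fun T' _ => ∃ s : T'.left ⟶ X, s ≫ f = T'.hom
      downward_closed := by
        rintro T' T'' a ⟨s, hs⟩ b
        exact ⟨b.left ≫ s, by rw [Category.assoc, hs, Over.w b]⟩ }
  refine ⟨R, ?_, fun T' a ha => ha⟩
  rw [GrothendieckTopology.mem_over_iff]
  let q := pullback.fst T.hom f
  have hE : HTop.IsPhCover (PreZeroHypercover.singleton.{u} q) := by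
    refine ⟨fun _ => inferInstanceAs (LocallyOfFiniteType q), fun V => ?_⟩
    haveI : IsAffine ((V : T.left.Opens) : Scheme.{u}) := V.2
    let g := q ∣_ (V : T.left.Opens)
    haveI : IsProper g := IsZariskiLocalAtTarget.restrict (P := @IsProper) inferInstance _
    haveI : Surjective g := IsZariskiLocalAtTarget.restrict (P := @Surjective) inferInstance _
    obtain ⟨F, hF, ⟨φ⟩⟩ := Groth.L28.Ph.exists_isStandardPh_of_local g (PreZeroHypercover.singleton.{u} g)
      fun x => by
        obtain ⟨W, hW, hxW, -⟩ := exists_isAffineOpen_mem_and_subset (x := x) (U := ⊤) trivial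
        exact ⟨W, hW, hxW, PUnit.unit, W.ι, rfl⟩
    refine ⟨F, hF, fun j => ⟨PUnit.unit, φ.h₀ j ≫ (q ⁻¹ᵁ (V : T.left.Opens)).ι, ?_⟩⟩
    have e : φ.h₀ j ≫ g = F.f j := φ.w₀ j
    show (φ.h₀ j ≫ (q ⁻¹ᵁ (V : T.left.Opens)).ι) ≫ q = _
    rw [← e]
    exact (Category.assoc _ _ _).trans ((congrArg (φ.h₀ j ≫ ·) (morphismRestrict_ι q _).symm).trans
      (Category.assoc _ _ _).symm)
  refine HTop.phTopology.superset_covering ?_
    (Precoverage.generate_mem_toGrothendieck ((HTop.presieve₀_mem_phPrecoverage_iff _).2 hE))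
  rw [Sieve.generate_le_iff]
  rintro W k ⟨⟩
  refine (Sieve.overEquiv_iff R _).2 ⟨pullback.snd T.hom f, ?_⟩
  exact pullback.condition.symm

end Groth.L23.PhCmp
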