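import Groth.Agent.L23.PhCmp.Trunc
import Groth.Agent.L10.EtDescent.FiniteExact
import Groth.Agent.L10.EtDescent.Refine
import Groth.Agent.L23.BigSite.ProperTorsion
import Groth.Agent.L28.CurveCd.FieldVanish

/-!
# Descent along proper surjective morphisms on the big étale site
-/

universe u

open CategoryTheory CategoryTheory.Limits AlgebraicGeometry Opposite

set_option autoImplicit false
set_option backward.isDefEq.respectTransparency false
set_option backward.defeqAttrib.useBackward true
set_option backward.isDefEq.respectTransparency.types false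
set_option linter.style.haveILetI false
set_option linter.unusedSectionVars false

noncomputable section

namespace Groth.L23.PhCmp

open Groth.L10.EtDescent

local notation "Ke" => Scheme.etalePrecoverage

variable {S X : Scheme.{u}} (h : X ⟶ S)

theorem isProper_wb [IsProper h] : ∀ p : ℕ, IsProper (wb h p)
  | 0 => by
    haveI : IsIso (wb h 0) := ⟨WidePullback.lift (𝟙 S) Fin.elim0 (fun j => j.elim0),
      WidePullback.hom_ext (fun _ : Fin 0 => h) _ _ (fun j => j.elim0)
        ((Category.assoc _ _ _).trans ((congrArg (_ ≫ ·) (WidePullback.lift_base _ _ _ _)).trans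
          ((Category.comp_id _).trans (Category.id_comp _).symm))),
      WidePullback.lift_base _ _ _ _⟩
    infer_instance
  | 1 => by
    show IsProper (Groth.L10.EtMonad.fpBase h 0)
    rw [show Groth.L10.EtMonad.fpBase h 0 = (Groth.L10.EtMonad.fpZeroIso h).hom ≫ h from
      (WidePullback.π_arrow (fun _ : Fin 1 => h) 0).symm]
    infer_instance
  | n + 2 => by
    haveI : IsProper (Groth.L10.EtMonad.fpBase h n) := isProper_wb (n + 1)
    show IsProper (Groth.L10.EtMonad.fpBase h (n + 1))
    rw [← Groth.L10.EtMonad.fpSuccIso_fst h n]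
    infer_instance

theorem inImg_Rpush_torsion {T : Scheme.{u}} (f : T ⟶ S) [IsProper f] (F : EtCoh.Ab T) (hF : EtCoh.IsTorsion F) (q : ℕ) :
    InImg ((BigSite.RpushBig Ke f q).obj ((BigSite.piEtPull Ke T).obj F)) :=
  (inImg_piEtPull _).of_iso (Groth.L23.Big.nonempty_piEtPull_Rpush f F hF q).some

variable {G : BigSite.Ab Ke S} (R : InjectiveResolution G)

theorem inImg_homology_col [IsProper h] (hG : InImg G) (hT : EtCoh.IsTorsion ((BigSite.resEt Ke S).obj G)) (p : ℕ)
    (j : ℤ) :
    InImg ((((colFun h p).mapHomologicalComplex (ComplexShape.up ℤ)).obj R.cochainComplex).homology j) := by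
  let K := ((colFun h p).mapHomologicalComplex (ComplexShape.up ℤ)).obj R.cochainComplex
  by_cases hj : 0 ≤ j
  swap
  · refine inImg_of_isZero S ?_
    exact (HomologicalComplex.exactAt_iff_isZero_homology K j).1
      (ShortComplex.exact_of_isZero_X₂ _ ((colFun h p).map_isZero (R.cochainComplex.isZero_of_isStrictlyGE 0 j (by omega))))
  obtain ⟨k, rfl⟩ := Int.eq_ofNat_of_zero_le hj
  haveI := isProper_wb h p
  let b := wb h p
  let P := BigSite.pullBig Ke b AddCommGrpCat.{u + 1}
  let F := P ⋙ BigSite.pushBig Ke b AddCommGrpCat.{u + 1}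
  have h0 : InImg ((F.rightDerived k).obj G) :=
    (inImg_Rpush_torsion b _ (Groth.L28.CurveCd.isTorsion_pull b hT) k).of_iso
      ((BigSite.RpushBig Ke b k).mapIso (((pullPiIso b).app ((BigSite.resEt Ke S).obj G)).symm ≪≫ P.mapIso hG.iso) ≪≫
        (Groth.L23.Big.nonempty_rightDerived_comm F (BigSite.pushBig Ke b AddCommGrpCat.{u + 1}) P (𝟭 _)
          (Functor.rightUnitor _) G k).some.symm)
  let N := (F.mapHomologicalComplex (ComplexShape.up ℕ)).obj R.cocomplex
  let M := N.extend ComplexShape.embeddingUpNat
  let e : M ≅ K :=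
    (Groth.L17.GrothSS.mapExtendIso F R.cocomplex ComplexShape.embeddingUpNat).symm ≪≫
      (NatIso.mapHomologicalComplex (colIso h p) (ComplexShape.up ℤ)).app R.cochainComplex
  exact h0.of_iso (R.isoRightDerivedObj F k ≪≫
    (N.extendHomologyIso ComplexShape.embeddingUpNat (j := k) (j' := (k : ℤ)) rfl).symm ≪≫
      HomologicalComplex.homologyMapIso e k)

theorem good_colCx [IsProper h] (hG : InImg G) (hT : EtCoh.IsTorsion ((BigSite.resEt Ke S).obj G)) (p : ℕ) :
    Good (colCx h R.cochainComplex p) := fun n =>
  (inImg_homology_col h R hG hT p (n + -(p : ℤ))).of_iso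
    ((CochainComplex.ShiftSequence.shiftIso (BigSite.Ab Ke S) (-(p : ℤ)) n (n + -(p : ℤ)) (by ring)).app _).symm

theorem good_trCx [IsProper h] (hG : InImg G) (hT : EtCoh.IsTorsion ((BigSite.resEt Ke S).obj G)) (P : ℕ) :
    Good (trCx h R.cochainComplex P) := by
  induction P with
  | zero => exact (good_colCx h R hG hT 0).of_iso (trZero h R.cochainComplex).symm
  | succ P ih => exact Good.of_shortExact (shortExact_colToTr h R.cochainComplex P) (good_colCx h R hG hT (P + 1)) ih

theorem good_totShCx [IsProper h] (hG : InImg G) (hT : EtCoh.IsTorsion ((BigSite.resEt Ke S).obj G)) :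
    Good (totShCx h R.cochainComplex) := fun n =>
  inImg_homology_of_near (totToTr h R.cochainComplex (n + 1).toNat) n
    (fun m hm => isIso_totToTr_f h R.cochainComplex _ m (by omega)) (good_trCx h R hG hT _ n)

theorem exactAt_pullBig_totShCx (I : CochainComplex (BigSite.Ab Ke S) ℤ) (n : ℤ) :
    (((BigSite.pullBig Ke h AddCommGrpCat.{u + 1}).mapHomologicalComplex (ComplexShape.up ℤ)).obj (totShCx h I)).ExactAt n := by
  refine (exactAt_iff_lexact _ n).2 fun T z hz => ?_
  obtain ⟨y, hy⟩ := exactAtObj_of_section h (T := (Over.map h).obj T) T.hom rfl (preCx I) n z hz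
  refine ⟨⊤, GrothendieckTopology.top_mem _ _, fun T' a _ =>
    ⟨((totCx (datum h) (preCx I)).X (n - 1)).map ((Over.map h).map a).op y, ?_⟩⟩
  exact (NatTrans.naturality_apply ((totCx (datum h) (preCx I)).d (n - 1) n) ((Over.map h).map a).op y).trans
    (congrArg _ hy)

/-- descent along proper surjective morphisms for torsion sheaves from the small site -/
theorem exactAtObj_proper [IsProper h] [Surjective h] (hG : InImg G)
    (hT : EtCoh.IsTorsion ((BigSite.resEt Ke S).obj G)) (T : Over S) :
    ExactAtObj (totCx (datum h) (preCx R.cochainComplex)) T := by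
  refine exactAtObj_of_lexact h R.cochainComplex (fun n => ?_) T
  let L := totShCx h R.cochainComplex
  refine (exactAt_iff_lexact L n).1 ?_
  rw [HomologicalComplex.exactAt_iff_isZero_homology]
  let P := BigSite.pullBig Ke h AddCommGrpCat.{u + 1}
  have hH : InImg (L.homology n) := good_totShCx h R hG hT n
  have hz : IsZero (P.obj (L.homology n)) :=
    ((exactAt_pullBig_totShCx h R.cochainComplex n).isZero_homology).of_iso ((L.sc n).mapHomologyIso P).symm
  have h1 := isZero_of_isZero_piEtPull _ ((hz.of_iso (P.mapIso hH.iso)).of_iso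
    ((pullPiIso h).app ((BigSite.resEt Ke S).obj (L.homology n))).symm)
  exact (((BigSite.piEtPull Ke S).map_isZero (Groth.L10.EtMonad.isZero_of_isZero_pull h _ h1))).of_iso hH.iso.symm

end Groth.L23.PhCmp
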