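import Groth.Agent.L10.EtDescent.SS
import Groth.Agent.L23.PhCmp.Proper

/-!
# The descent spectral sequence of a proper surjective morphism
-/

universe u

open CategoryTheory CategoryTheory.Limits CategoryTheory.Abelian AlgebraicGeometry Opposite

set_option autoImplicit false
set_option backward.defeqAttrib.useBackward true
set_option backward.isDefEq.respectTransparency false
set_option backward.isDefEq.respectTransparency.types false
set_option linter.style.haveILetI false

namespace Groth.L23.PhCmp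

open Groth.L10.EtDescent

local notation "Ke" => Scheme.etalePrecoverage

open Groth.L17.SpecObj (Hij coe_le_succ pageTwoIso)

variable {X Y : Scheme.{u}}

theorem isTorsion_of_iso {S : Scheme.{u}} {F F' : EtCoh.Ab S} (e : F ≅ F') (hF : EtCoh.IsTorsion F) :
    EtCoh.IsTorsion F' := fun U s x => by
  obtain ⟨V, g, hx, hs⟩ := hF U (e.inv.hom.app (op U) s) x
  refine ⟨V, g, hx, ?_⟩
  have h : e.hom.hom.app (op V) (F.obj.map g.op (e.inv.hom.app (op U) s)) = F'.obj.map g.op s := by
    rw [NatTrans.naturality_apply e.hom.hom g.op]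
    exact congrArg (F'.obj.map g.op) (ConcreteCategory.congr_hom (congrArg (fun t : F' ⟶ F' => t.hom.app (op U)) e.inv_hom_id) s)
  exact h ▸ (e.hom.hom.app (op V)).hom.isOfFinAddOrder hs

theorem isTorsion_res (F : EtCoh.Ab Y) (hF : EtCoh.IsTorsion F) :
    EtCoh.IsTorsion ((BigSite.resEt Ke Y).obj ((BigSite.piEtPull Ke Y).obj F)) :=
  haveI := Groth.L23.Big.isIso_unit_small Y AddCommGrpCat.{u + 1}
  isTorsion_of_iso (asIso ((BigSite.piEtAdj Ke Y).unit.app F)) hF

theorem exists_spectralSequence_proper (f : X ⟶ Y) [IsProper f] [Surjective f] (F : EtCoh.Ab Y) (hF : EtCoh.IsTorsion F)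
    :
    ∃ (E : CohomologicalSpectralSequence AddCommGrpCat.{u + 1} 1)
      (a : SpSeq.Abutment E (fun n : ℤ =>
        if 0 ≤ n then AddCommGrpCat.of (EtCoh.H Y F n.toNat) else AddCommGrpCat.of PUnit.{u + 2})),
      (∀ n, a.IsFinite n) ∧ SpSeq.IsBounded E ∧
      ∀ p q : ℤ, Nonempty ((E.page 1 le_rfl).X (p, q) ≅
        (if 0 ≤ p ∧ 0 ≤ q then
          AddCommGrpCat.of (EtCoh.H (widePullback Y (fun _ : Fin (p.toNat + 1) => X) (fun _ => f))
            ((EtCoh.pull (WidePullback.base (fun _ : Fin (p.toNat + 1) => f) :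
              widePullback Y (fun _ : Fin (p.toNat + 1) => X) (fun _ => f) ⟶ Y)).obj F) q.toNat)
         else AddCommGrpCat.of PUnit.{u + 2})) := by
  let G := (BigSite.piEtPull Ke Y).obj F
  let R := injectiveResolution G
  let T : Over Y := Over.mk (𝟙 Y)
  have hex := exactAtObj_proper f R (inImg_piEtPull F) (isTorsion_res F hF) T
  let Φ := preCx R.cochainComplex
  let P := totFil (datum f) Φ T
  have hl := isLowBounded_totFil (datum f) Φ T (fun j hj =>
    (sheafToPresheaf _ _).map_isZero (R.cochainComplex.isZero_of_isStrictlyGE 0 j hj))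
  have hh := isHighBounded_totFil (datum f) Φ T
  have hη : ∀ n : ℤ, Nonempty ((if 0 ≤ n then AddCommGrpCat.of (EtCoh.H Y F n.toNat)
      else AddCommGrpCat.of PUnit.{u + 2}) ≅ Hij P.specObj n (bot_le : ⊥ ≤ (⊤ : EInt))) := fun n => by
    obtain ⟨e⟩ := nonempty_top_iso (datum f) Φ T hex n
    let e' := e ≪≫ (HomologicalComplex.homologyFunctor _ _ n).mapIso (atObjIso Φ (qZeroIso f T)).symm
    by_cases hn : 0 ≤ n
    · obtain ⟨m, rfl⟩ := Int.eq_ofNat_of_zero_le hn
      rw [if_pos hn]
      obtain ⟨d⟩ := nonempty_etale_homology_id R m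
      exact ⟨(e' ≪≫ d).symm⟩
    · rw [if_neg hn]
      exact ⟨(AddCommGrpCat.isZero_of_subsingleton _).iso
        (IsZero.of_iso (isZero_sections_homology R T n (by omega)) e')⟩
  let η := fun n => (hη n).some
  obtain ⟨a, ha⟩ := Groth.L17.SpecObj.exists_abutment (Y := P.specObj) η hl hh
  obtain ⟨a', ha', hb'⟩ := Groth.L10.Descent.exists_decalage _ a ha (Groth.L17.SpecObj.isBounded hl hh)
  refine ⟨_, a', ha', hb', fun p q => ?_⟩
  by_cases hp : 0 ≤ p
  · obtain ⟨m, rfl⟩ := Int.eq_ofNat_of_zero_le hp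
    obtain ⟨d⟩ := nonempty_graded_iso (datum f) Φ T m (2 * (m : ℤ) + q + -(m : ℤ)) q (by ring)
    let e' := pageTwoIso (2 * (m : ℤ) + q) (-(m : ℤ)) ≪≫ d ≪≫
      (HomologicalComplex.homologyFunctor _ _ q).mapIso (atObjIso Φ (qoTopIso f (m + 1))).symm
    by_cases hq : 0 ≤ q
    · obtain ⟨k, rfl⟩ := Int.eq_ofNat_of_zero_le hq
      rw [if_pos ⟨hp, hq⟩]
      obtain ⟨c⟩ := nonempty_etale_homology R (wb f (m + 1)) k
      exact ⟨e' ≪≫ c⟩
    · rw [if_neg (fun h => hq h.2)]
      exact ⟨(IsZero.of_iso (isZero_sections_homology R _ q (by omega)) e').iso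
        (AddCommGrpCat.isZero_of_subsingleton _)⟩
  · rw [if_neg (fun h => hp h.1)]
    exact ⟨(IsZero.of_iso (isZero_high (datum f) Φ T (-p) (by omega) _) (pageTwoIso (2 * p + q) (-p))).iso
      (AddCommGrpCat.isZero_of_subsingleton _)⟩

end Groth.L23.PhCmp
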