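import Groth.Agent.L23.PhCmp.Core

/-!
# Sheaves from the small étale site satisfy descent along proper surjections, and are ph sheaves
-/

universe u

open CategoryTheory CategoryTheory.Limits AlgebraicGeometry Opposite

set_option autoImplicit false
set_option backward.defeqAttrib.useBackward true
set_option backward.isDefEq.respectTransparency false
set_option backward.isDefEq.respectTransparency.types false
set_option linter.style.haveILetI false
set_option linter.unusedSectionVars false

noncomputable section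

namespace Groth.L23.PhCmp

open Groth.L10.EtDescent

local notation "Ke" => Scheme.etalePrecoverage
local notation "Kp" => HTop.phPrecoverage

variable {S X : Scheme.{u}} (h : X ⟶ S) {G : BigSite.Ab Ke S}

theorem inImg_colSh [IsProper h] (hG : InImg G) (p : ℕ) : InImg (colSh h p G) := by
  haveI := isProper_wb h p
  let b := wb h p
  let F := (BigSite.resEt Ke S).obj G
  exact (inImg_piEtPull ((EtCoh.push b).obj ((EtCoh.pull b).obj F))).of_iso
    ((Groth.L23.Big.pushPiIso b).app ((EtCoh.pull b).obj F) ≪≫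
      (BigSite.pushBig Ke b AddCommGrpCat.{u + 1}).mapIso
        (((pullPiIso b).app F).symm ≪≫ (BigSite.pullBig Ke b AddCommGrpCat.{u + 1}).mapIso hG.iso) ≪≫
      colShIso h p G)

theorem inImg_shortComplex_homology (Sh : ShortComplex (BigSite.Ab Ke S))
    (h1 : InImg Sh.X₁) (h2 : InImg Sh.X₂) (h3 : InImg Sh.X₃) : InImg Sh.homology := by
  haveI : IsIso ((pfε S).app Sh.X₁) := h1
  haveI : IsIso ((pfε S).app Sh.X₂) := h2
  haveI : IsIso ((pfε S).app Sh.X₃) := h3
  haveI : IsIso (Sh.mapNatTrans (pfε S)).τ₁ := inferInstanceAs (IsIso ((pfε S).app Sh.X₁))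
  haveI : IsIso (Sh.mapNatTrans (pfε S)).τ₂ := inferInstanceAs (IsIso ((pfε S).app Sh.X₂))
  haveI : IsIso (Sh.mapNatTrans (pfε S)).τ₃ := inferInstanceAs (IsIso ((pfε S).app Sh.X₃))
  haveI : IsIso (Sh.mapNatTrans (pfε S)) := ShortComplex.isIso_of_isIso _
  refine (inImg_iff S _).2 ?_
  rw [NatTrans.app_homology (pfε S) Sh]
  infer_instance

theorem exact_of_pullBig [Surjective h] (Sh : ShortComplex (BigSite.Ab Ke S))
    (h1 : InImg Sh.X₁) (h2 : InImg Sh.X₂) (h3 : InImg Sh.X₃)
    (hex : (Sh.map (BigSite.pullBig Ke h AddCommGrpCat.{u + 1})).Exact) : Sh.Exact := by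
  rw [ShortComplex.exact_iff_isZero_homology]
  have hH := inImg_shortComplex_homology Sh h1 h2 h3
  let P := BigSite.pullBig Ke h AddCommGrpCat.{u + 1}
  have hz : IsZero (P.obj Sh.homology) :=
    ((ShortComplex.exact_iff_isZero_homology _).1 hex).of_iso (Sh.mapHomologyIso P).symm
  have h1 := isZero_of_isZero_piEtPull _ ((hz.of_iso (P.mapIso hH.iso)).of_iso
    ((pullPiIso h).app ((BigSite.resEt Ke S).obj Sh.homology)).symm)
  exact (((BigSite.piEtPull Ke S).map_isZero (Groth.L10.EtMonad.isZero_of_isZero_pull h _ h1))).of_iso hH.iso.symm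

/-- the Čech differential -/
def cobSh (G : BigSite.Ab Ke S) (p : ℕ) : colSh h p G ⟶ colSh h (p + 1) G :=
  ⟨{ app := fun T => AddCommGrpCat.ofHom (cob h G.obj p T.unop)
     naturality := fun T T' a => by
      refine ConcreteCategory.hom_ext _ _ fun x => ?_
      exact ((datum h).δ_natT G.obj p a.unop x).symm }⟩

theorem cobSh_comp (G : BigSite.Ab Ke S) (p : ℕ) : cobSh h G p ≫ cobSh h G (p + 1) = 0 :=
  Sheaf.hom_ext (NatTrans.ext (funext fun T => ConcreteCategory.hom_ext _ _ fun x => cob_cob h G.obj p T.unop x))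

theorem mono_cobSh [IsProper h] [Surjective h] (hG : InImg G) : Mono (cobSh h G 0) := by
  have hex : (ShortComplex.mk (0 : colSh h 0 G ⟶ colSh h 0 G) (cobSh h G 0) zero_comp).Exact := by
    refine exact_of_pullBig h _ (inImg_colSh h hG 0) (inImg_colSh h hG 0) (inImg_colSh h hG 1)
      ((Groth.L27.FppfCmp.exact_iff_locally _).2 fun T z hz => ⟨⊤, GrothendieckTopology.top_mem _ _, fun T' a _ => ⟨0, ?_⟩⟩)
    have e := cons_cob_zero h (T := (Over.map h).obj T) T.hom rfl G.obj z
    change cob h G.obj 0 ((Over.map h).obj T) z = 0 at hz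
    rw [hz, map_zero] at e
    rw [map_zero, ← e, map_zero]
  exact hex.mono_g rfl

theorem exact_cobSh [IsProper h] [Surjective h] (hG : InImg G) :
    (ShortComplex.mk _ _ (cobSh_comp h G 0)).Exact := by
  refine exact_of_pullBig h _ (inImg_colSh h hG 0) (inImg_colSh h hG 1) (inImg_colSh h hG 2)
    ((Groth.L27.FppfCmp.exact_iff_locally _).2 fun T z hz => ⟨⊤, GrothendieckTopology.top_mem _ _, fun T' a _ => ?_⟩)
  have e := cons_cob_succ h (T := (Over.map h).obj T) T.hom rfl G.obj 0 z
  change cob h G.obj 1 ((Over.map h).obj T) z = 0 at hz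
  rw [hz, map_zero, add_zero] at e
  refine ⟨(colSh h 0 G).obj.map ((Over.map h).map a).op (G.obj.map (cons h T.hom rfl 0).op z), ?_⟩
  refine (NatTrans.naturality_apply (cobSh h G 0).hom ((Over.map h).map a).op _).trans ?_
  exact congrArg ((colSh h 1 G).obj.map ((Over.map h).map a).op) e

/-- descent in degree zero -/
theorem existsUnique_proper [IsProper h] [Surjective h] (hG : InImg G) :
    (∀ a b : G.obj.obj (op (Over.mk (𝟙 S))),
      G.obj.map (Over.homMk h (Category.comp_id h) : Over.mk h ⟶ Over.mk (𝟙 S)).op a =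
        G.obj.map (Over.homMk h (Category.comp_id h) : Over.mk h ⟶ Over.mk (𝟙 S)).op b → a = b) ∧
    ∀ y : G.obj.obj (op (Over.mk h)),
      (∀ ⦃W : Over S⦄ (p q : W ⟶ Over.mk h), G.obj.map p.op y = G.obj.map q.op y) →
      ∃ x, G.obj.map (Over.homMk h (Category.comp_id h) : Over.mk h ⟶ Over.mk (𝟙 S)).op x = y := by
  let T0 : Over S := Over.mk (𝟙 S)
  let j : Over.mk h ⟶ T0 := Over.homMk h (Category.comp_id h)
  let e0 := qZeroIso h T0
  have hπ : qπ h 1 T0 0 ≫ h = (qo h 1 T0).hom := qπ_f h 1 T0 0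
  let α : qo h 1 T0 ⟶ Over.mk h := Over.homMk (qπ h 1 T0 0) hπ
  have hc : qlift h (T := T0) h (fun _ : Fin 1 => 𝟙 X) (fun _ => by simp [T0]) ≫ (qo h 1 T0).hom = h :=
    (qlift_fst_assoc h _ _ _ T0.hom).trans (Category.comp_id h)
  let c : Over.mk h ⟶ qo h 1 T0 := Over.homMk _ hc
  have hcα : c ≫ α = 𝟙 _ := Over.OverMorphism.ext (qlift_π h _ _ _ 0)
  have hd : drop h 0 T0 ≫ e0.hom = α ≫ j := Over.mkIdTerminal.hom_ext _ _
  have hcob : ∀ x : G.obj.obj (op T0), cob h G.obj 0 T0 (G.obj.map e0.hom.op x) = G.obj.map α.op (G.obj.map j.op x) := by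
    intro x
    rw [cob_apply, Fin.sum_univ_one]
    simp only [Fin.val_zero, pow_zero, one_smul, ← ConcreteCategory.comp_apply, ← Functor.map_comp, ← op_comp]
    rw [hd]
  refine ⟨fun a b hab => ?_, fun y hy => ?_⟩
  · haveI := mono_cobSh h hG
    haveI : Mono ((Groth.L27.FppfCmp.secF T0).map (cobSh h G 0)) := inferInstance
    have hinj := (AddCommGrpCat.mono_iff_injective _).1 this
    have e : G.obj.map e0.hom.op a = G.obj.map e0.hom.op b := hinj
      ((hcob a).trans ((congrArg (G.obj.map α.op) hab).trans (hcob b).symm))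
    have e' := congrArg (G.obj.map e0.inv.op) e
    simpa only [← ConcreteCategory.comp_apply, ← Functor.map_comp, ← op_comp, Iso.inv_hom_id, op_id,
      CategoryTheory.Functor.map_id, ConcreteCategory.id_apply] using e'
  · haveI := mono_cobSh h hG
    obtain ⟨x, hx⟩ := exists_preimage_sec (exact_cobSh h hG) T0 (G.obj.map α.op y) (by
      show cob h G.obj 1 T0 (G.obj.map α.op y) = 0
      rw [cob_apply, Fin.sum_univ_two]
      simp only [Fin.val_zero, Fin.val_one, pow_zero, pow_one, one_smul, neg_smul, ← ConcreteCategory.comp_apply,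
        ← Functor.map_comp, ← op_comp]
      rw [hy (drop h 0 T0 ≫ α) (drop h 1 T0 ≫ α), add_neg_cancel])
    refine ⟨G.obj.map e0.inv.op x, ?_⟩
    change cob h G.obj 0 T0 x = G.obj.map α.op y at hx
    have ex : G.obj.map e0.hom.op (G.obj.map e0.inv.op x) = x := by
      rw [← ConcreteCategory.comp_apply, ← Functor.map_comp, ← op_comp, Iso.hom_inv_id, op_id,
        CategoryTheory.Functor.map_id, ConcreteCategory.id_apply]
    rw [← ex, hcob] at hx
    have e' := congrArg (G.obj.map c.op) hx
    simp only [← ConcreteCategory.comp_apply, ← Functor.map_comp, ← op_comp, reassoc_of% hcα, hcα, op_id,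
      CategoryTheory.Functor.map_id, ConcreteCategory.id_apply] at e'
    refine Eq.trans ?_ e'
    show G.obj.map j.op (G.obj.map e0.inv.op x) = _
    rw [← ConcreteCategory.comp_apply, ← Functor.map_comp, ← op_comp]

end Groth.L23.PhCmp

end
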