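import Groth.Agent.L10.EtDescent.Img
import Mathlib.Algebra.Homology.HomologySequenceLemmas
import Mathlib.Algebra.Homology.QuasiIso

/-!
# Complexes whose cohomology comes from the small étale site
-/

universe u

open CategoryTheory CategoryTheory.Limits AlgebraicGeometry Opposite HomologicalComplex ComposableArrows

set_option autoImplicit false
set_option backward.isDefEq.respectTransparency false
set_option backward.defeqAttrib.useBackward true
set_option backward.isDefEq.respectTransparency.types false
set_option linter.style.haveILetI false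
set_option linter.unusedSectionVars false

noncomputable section

namespace Groth.L23.PhCmp

open Groth.L10.EtDescent (InImg)

local notation "Ke" => Scheme.etalePrecoverage

variable (S : Scheme.{u})

/-- restriction to the small site followed by extension -/
def pf : BigSite.Ab Ke S ⥤ BigSite.Ab Ke S := BigSite.resEt Ke S ⋙ BigSite.piEtPull Ke S

instance additive_pf : (pf S).Additive := by
  haveI : (BigSite.piEtPull Ke S).Additive := (BigSite.piEtAdj Ke S).left_adjoint_additive
  exact inferInstanceAs (BigSite.resEt Ke S ⋙ BigSite.piEtPull Ke S).Additive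

instance preservesFiniteLimits_pf : PreservesFiniteLimits (pf S) := by
  haveI := Groth.L23.Big.preservesFiniteLimits_piEtPull Ke S
  exact comp_preservesFiniteLimits (BigSite.resEt Ke S) (BigSite.piEtPull Ke S)

instance preservesFiniteColimits_pf : PreservesFiniteColimits (pf S) :=
  comp_preservesFiniteColimits (BigSite.resEt Ke S) (BigSite.piEtPull Ke S)

/-- the comparison -/
def pfε : pf S ⟶ 𝟭 (BigSite.Ab Ke S) := (BigSite.piEtAdj Ke S).counit

theorem inImg_iff (G : BigSite.Ab Ke S) : InImg G ↔ IsIso ((pfε S).app G) := Iff.rfl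

theorem inImg_of_isZero {G : BigSite.Ab Ke S} (h : IsZero G) : InImg G :=
  ⟨⟨0, ((pf S).map_isZero h).eq_of_src _ _, IsZero.eq_of_src (C := BigSite.Ab Ke S) h _ _⟩⟩

variable {S}

/-- the comparison on complexes -/
def εC (K : CochainComplex (BigSite.Ab Ke S) ℤ) :
    ((pf S).mapHomologicalComplex (ComplexShape.up ℤ)).obj K ⟶ K where
  f n := (pfε S).app (K.X n)
  comm' i j _ := ((pfε S).naturality (K.d i j)).symm

theorem εC_naturality {K L : CochainComplex (BigSite.Ab Ke S) ℤ} (φ : K ⟶ L) :
    ((pf S).mapHomologicalComplex (ComplexShape.up ℤ)).map φ ≫ εC L = εC K ≫ φ := by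
  ext n : 1
  exact (pfε S).naturality (φ.f n)

theorem inImg_homology_iff (K : CochainComplex (BigSite.Ab Ke S) ℤ) (n : ℤ) :
    InImg (K.homology n) ↔ IsIso (homologyMap (εC K) n) := by
  let T := K.sc n
  have h : (pfε S).app T.homology = (T.mapHomologyIso (pf S)).inv ≫
      ShortComplex.homologyMap (T.mapNatTrans (pfε S)) ≫ (T.mapHomologyIso (𝟭 _)).hom :=
    NatTrans.app_homology (pfε S) T
  have e : ShortComplex.homologyMap (T.mapNatTrans (pfε S)) = homologyMap (εC K) n := rfl
  constructor
  · intro hI
    haveI : IsIso ((pfε S).app T.homology) := hI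
    haveI : IsIso ((T.mapHomologyIso (pf S)).inv ≫
        ShortComplex.homologyMap (T.mapNatTrans (pfε S)) ≫ (T.mapHomologyIso (𝟭 _)).hom) := h ▸ inferInstance
    haveI : IsIso (ShortComplex.homologyMap (T.mapNatTrans (pfε S)) ≫ (T.mapHomologyIso (𝟭 _)).hom) :=
      IsIso.of_isIso_comp_left (T.mapHomologyIso (pf S)).inv _
    exact e ▸ IsIso.of_isIso_comp_right _ (T.mapHomologyIso (𝟭 _)).hom
  · intro hI
    haveI : IsIso (ShortComplex.homologyMap (T.mapNatTrans (pfε S))) := by rw [e]; exact hI
    show IsIso ((pfε S).app T.homology)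
    rw [h]
    exact IsIso.comp_isIso' inferInstance (IsIso.comp_isIso' inferInstance inferInstance)

/-- all cohomology sheaves come from the small site -/
def Good (K : CochainComplex (BigSite.Ab Ke S) ℤ) : Prop := ∀ n, InImg (K.homology n)

theorem Good.isIso {K : CochainComplex (BigSite.Ab Ke S) ℤ} (h : Good K) (n : ℤ) :
    IsIso (homologyMap (εC K) n) := (inImg_homology_iff K n).1 (h n)

theorem Good.of_iso {K L : CochainComplex (BigSite.Ab Ke S) ℤ} (h : Good K) (e : K ≅ L) : Good L :=
  fun n => (h n).of_iso (homologyMapIso e n)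

theorem good_of_acyclic {K : CochainComplex (BigSite.Ab Ke S) ℤ} (h : K.Acyclic) : Good K :=
  fun n => inImg_of_isZero S (h n).isZero_homology

/-- good complexes are closed under extensions -/
theorem Good.of_shortExact {T : ShortComplex (CochainComplex (BigSite.Ab Ke S) ℤ)} (hT : T.ShortExact)
    (h₁ : Good T.X₁) (h₃ : Good T.X₃) : Good T.X₂ := by
  intro n
  let F := (pf S).mapHomologicalComplex (ComplexShape.up ℤ)
  have hFT : (T.map F).ShortExact :=
    HomologicalComplex.shortExact_of_degreewise_shortExact _ fun i =>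
      (hT.map_of_exact (HomologicalComplex.eval _ _ i)).map_of_exact (pf S)
  let φ : T.map F ⟶ T :=
    { τ₁ := εC T.X₁, τ₂ := εC T.X₂, τ₃ := εC T.X₃
      comm₁₂ := (εC_naturality T.f).symm, comm₂₃ := (εC_naturality T.g).symm }
  haveI : ∀ m, IsIso (homologyMap φ.τ₁ m) := h₁.isIso
  haveI : ∀ m, IsIso (homologyMap φ.τ₃ m) := h₃.isIso
  haveI : Mono (homologyMap φ.τ₂ n) := by
    apply Abelian.mono_of_epi_of_mono_of_mono
      ((δ₀Functor ⋙ δ₀Functor).map (HomologySequence.mapComposableArrows₅ φ hFT hT (n - 1) n (by simp)))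
    · exact (HomologySequence.composableArrows₅_exact hFT (n - 1) n (by simp)).δ₀.δ₀
    · exact (HomologySequence.composableArrows₅_exact hT (n - 1) n (by simp)).δ₀.δ₀
    · exact inferInstanceAs (Epi (homologyMap φ.τ₃ (n - 1)))
    · exact inferInstanceAs (Mono (homologyMap φ.τ₁ n))
    · exact inferInstanceAs (Mono (homologyMap φ.τ₃ n))
  haveI : Epi (homologyMap φ.τ₂ n) := by
    apply Abelian.epi_of_epi_of_epi_of_mono
      ((δlastFunctor ⋙ δlastFunctor).map (HomologySequence.mapComposableArrows₅ φ hFT hT n (n + 1) rfl))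
    · exact (HomologySequence.composableArrows₅_exact hFT n (n + 1) rfl).δlast.δlast
    · exact (HomologySequence.composableArrows₅_exact hT n (n + 1) rfl).δlast.δlast
    · exact inferInstanceAs (Epi (homologyMap φ.τ₁ n))
    · exact inferInstanceAs (Epi (homologyMap φ.τ₃ n))
    · exact inferInstanceAs (Mono (homologyMap φ.τ₁ (n + 1)))
  exact (inImg_homology_iff T.X₂ n).2 (isIso_of_mono_of_epi (homologyMap φ.τ₂ n))

/-- a map which is invertible near a degree -/
theorem inImg_homology_of_near {K L : CochainComplex (BigSite.Ab Ke S) ℤ} (φ : K ⟶ L) (n : ℤ)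
    (h : ∀ m, m ≤ n + 1 → IsIso (φ.f m)) (hL : InImg (L.homology n)) : InImg (K.homology n) := by
  haveI : IsIso (((HomologicalComplex.shortComplexFunctor _ (ComplexShape.up ℤ) n).map φ).τ₁) :=
    h _ (by simp [CochainComplex.prev]; omega)
  haveI : IsIso (((HomologicalComplex.shortComplexFunctor _ (ComplexShape.up ℤ) n).map φ).τ₂) := h _ (by omega)
  haveI : IsIso (((HomologicalComplex.shortComplexFunctor _ (ComplexShape.up ℤ) n).map φ).τ₃) :=
    h _ (by simp [CochainComplex.next])
  haveI : IsIso ((HomologicalComplex.shortComplexFunctor (BigSite.Ab Ke S) (ComplexShape.up ℤ) n).map φ) :=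
    ShortComplex.isIso_of_isIso _
  haveI : IsIso (homologyMap φ n) := by
    delta HomologicalComplex.homologyMap
    infer_instance
  exact hL.of_iso (asIso (homologyMap φ n)).symm

end Groth.L23.PhCmp
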