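import Groth.Agent.L10.EtDescent.Finite
import Groth.Agent.L23.PhCmp.Good
import Mathlib.Algebra.Homology.HomotopyCategory.Shift

/-!
# Truncations of total Čech complexes
-/

universe u

open CategoryTheory CategoryTheory.Limits AlgebraicGeometry Opposite

set_option autoImplicit false
set_option backward.isDefEq.respectTransparency false
set_option backward.defeqAttrib.useBackward true
set_option backward.isDefEq.respectTransparency.types false
set_option linter.style.haveILetI false
set_option linter.unusedSectionVars false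

noncomputable section

namespace Groth.L23.PhCmp

open Groth.L10.EtDescent

local notation "Ke" => Scheme.etalePrecoverage

variable {S X : Scheme.{u}} (f : X ⟶ S) (I : CochainComplex (BigSite.Ab Ke S) ℤ)

/-- a column placed in its degree -/
abbrev colCx (p : ℕ) : CochainComplex (BigSite.Ab Ke S) ℤ :=
  (CategoryTheory.shiftFunctor (CochainComplex (BigSite.Ab Ke S) ℤ) (-(p : ℤ))).obj
    (((colFun f p).mapHomologicalComplex (ComplexShape.up ℤ)).obj I)

/-- families with few factors -/
abbrev TrX (P : ℕ) (n : ℤ) (T : Over S) : Type (u + 1) :=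
  ∀ (p : ℕ) (j : ℤ), (p : ℤ) + j = n → p ≤ P → (I.X j).obj.obj (op (((datum f).Q p).obj T))

/-- forgetting columns -/
def resX (P : ℕ) (n : ℤ) (T : Over S) : TotX (datum f) (preCx I) n T →+ TrX f I P n T where
  toFun z := fun p j h _ => z p j h
  map_zero' := rfl
  map_add' _ _ := rfl

/-- extending by zero -/
def extX (P : ℕ) (n : ℤ) (T : Over S) : TrX f I P n T →+ TotX (datum f) (preCx I) n T where
  toFun z := fun p j h => if hp : p ≤ P then z p j h hp else 0
  map_zero' := by funext p j h; split_ifs <;> rfl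
  map_add' z z' := by
    funext p j h
    show _ = (if hp : p ≤ P then z p j h hp else 0) + (if hp : p ≤ P then z' p j h hp else 0)
    by_cases hp : p ≤ P
    · rw [dif_pos hp, dif_pos hp, dif_pos hp]; rfl
    · rw [dif_neg hp, dif_neg hp, dif_neg hp, add_zero]

theorem extX_apply (P : ℕ) (n : ℤ) (T : Over S) (z : TrX f I P n T) (p : ℕ) (j : ℤ) (h : (p : ℤ) + j = n) (hp : p ≤ P) :
    extX f I P n T z p j h = z p j h hp := dif_pos hp

theorem extX_neg (P : ℕ) (n : ℤ) (T : Over S) (z : TrX f I P n T) (p : ℕ) (j : ℤ) (h : (p : ℤ) + j = n) (hp : ¬ p ≤ P) :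
    extX f I P n T z p j h = 0 := dif_neg hp

theorem resX_extX (P : ℕ) (n : ℤ) (T : Over S) (z : TrX f I P n T) : resX f I P n T (extX f I P n T z) = z := by
  funext p j h hp
  exact extX_apply f I P n T z p j h hp

theorem totD_congr {P : ℕ} {n : ℤ} {T : Over S} (z z' : TotX (datum f) (preCx I) n T)
    (h : ∀ p j e, p ≤ P → z p j e = z' p j e) (p : ℕ) (j : ℤ) (e : (p : ℤ) + j = n + 1) (hp : p ≤ P) :
    totD (datum f) (preCx I) n T z p j e = totD (datum f) (preCx I) n T z' p j e := by
  cases p with
  | zero => rw [totD_zero_apply, totD_zero_apply, h 0 _ _ hp]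
  | succ p => rw [totD_succ_apply, totD_succ_apply, h p _ _ (by omega), h (p + 1) _ _ hp]

/-- the differential -/
def trD (P : ℕ) (n : ℤ) (T : Over S) : TrX f I P n T →+ TrX f I P (n + 1) T :=
  (resX f I P (n + 1) T).comp ((totD (datum f) (preCx I) n T).comp (extX f I P n T))

theorem trD_resX (P : ℕ) (n : ℤ) (T : Over S) (z : TotX (datum f) (preCx I) n T) :
    trD f I P n T (resX f I P n T z) = resX f I P (n + 1) T (totD (datum f) (preCx I) n T z) := by
  funext p j h hp
  exact totD_congr f I _ _ (fun q i e hq => extX_apply f I P n T _ q i e hq) p j h hp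

theorem trD_trD (P : ℕ) (n : ℤ) (T : Over S) (z : TrX f I P n T) :
    trD f I P (n + 1) T (trD f I P n T z) = 0 := by
  rw [← resX_extX f I P n T z, trD_resX, trD_resX, totD_totD, map_zero]

/-- restriction -/
def trMap (P : ℕ) (n : ℤ) {T T' : Over S} (a : T' ⟶ T) : TrX f I P n T →+ TrX f I P n T' where
  toFun z := fun p j h hp => (I.X j).obj.map (((datum f).Q p).map a).op (z p j h hp)
  map_zero' := by funext p j h hp; exact map_zero _
  map_add' z z' := by funext p j h hp; exact map_add _ _ _

/-- the truncation as presheaves -/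
def trPre (P : ℕ) (n : ℤ) : (Over S)ᵒᵖ ⥤ AddCommGrpCat.{u + 1} where
  obj T := AddCommGrpCat.of (TrX f I P n T.unop)
  map a := AddCommGrpCat.ofHom (trMap f I P n a.unop)
  map_id T := by
    ext z
    simp [trMap]
  map_comp a b := by
    ext z
    simp [trMap]

theorem trMap_resX (P : ℕ) (n : ℤ) {T T' : Over S} (a : T' ⟶ T) (z : TotX (datum f) (preCx I) n T) :
    trMap f I P n a (resX f I P n T z) = resX f I P n T' (totMap (datum f) (preCx I) n a z) := rfl

theorem trD_trMap (P : ℕ) (n : ℤ) {T T' : Over S} (a : T' ⟶ T) (z : TrX f I P n T) :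
    trD f I P n T' (trMap f I P n a z) = trMap f I P (n + 1) a (trD f I P n T z) := by
  rw [← resX_extX f I P n T z, trMap_resX, trD_resX, trD_resX, trMap_resX, totD_totMap]

/-- the columns of a truncation in a degree -/
abbrev TrIdx (P : ℕ) (n : ℤ) : Type := { pj : ℕ × ℤ // (pj.1 : ℤ) + pj.2 = n ∧ pj.1 ≤ P }

/-- the projections -/
def trCone (P : ℕ) (n : ℤ) :
    Cone ((Discrete.functor fun s : TrIdx P n => colSh f s.1.1 (I.X s.1.2)) ⋙ sheafToPresheaf _ _) where
  pt := trPre f I P n
  π := Discrete.natTrans fun s =>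
    { app := fun T => AddCommGrpCat.ofHom
        { toFun := fun z => z s.as.1.1 s.as.1.2 s.as.2.1 s.as.2.2, map_zero' := rfl, map_add' := fun _ _ => rfl }
      naturality := fun T T' a => by ext z; rfl }

/-- they form a product -/
def trConeIsLimit (P : ℕ) (n : ℤ) : IsLimit (trCone f I P n) where
  lift s :=
    { app := fun T => AddCommGrpCat.ofHom
        { toFun := fun x p j h hp => (s.π.app ⟨⟨(p, j), h, hp⟩⟩).app T x
          map_zero' := by funext p j h hp; exact map_zero _
          map_add' := fun x y => by funext p j h hp; exact map_add _ _ _ }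
      naturality := fun T T' a => by
        refine AddCommGrpCat.hom_ext (AddMonoidHom.ext fun x => ?_)
        funext p j h hp
        exact NatTrans.naturality_apply (s.π.app ⟨⟨(p, j), h, hp⟩⟩) a x }
  fac s := fun ⟨⟨(p, j), h, hp⟩⟩ => by ext T x; rfl
  uniq s m hm := by
    refine NatTrans.ext (funext fun T => AddCommGrpCat.hom_ext (AddMonoidHom.ext fun x => ?_))
    funext p j h hp
    exact ConcreteCategory.congr_hom (congrArg (fun φ => φ.app T) (hm ⟨⟨(p, j), h, hp⟩⟩)) x

/-- the truncation as sheaves -/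
def trSh (P : ℕ) (n : ℤ) : BigSite.Ab Ke S :=
  ⟨trPre f I P n, Sheaf.isSheaf_of_isLimit _ (trCone f I P n) (trConeIsLimit f I P n)⟩

/-- the differential as a map of sheaves -/
def trDSh (P : ℕ) (n : ℤ) : trSh f I P n ⟶ trSh f I P (n + 1) :=
  ⟨{ app := fun T => AddCommGrpCat.ofHom (trD f I P n T.unop)
     naturality := fun T T' a => by
       refine AddCommGrpCat.hom_ext (AddMonoidHom.ext fun z => ?_)
       exact trD_trMap f I P n a.unop z }⟩

/-- the truncated complex -/
def trCx (P : ℕ) : CochainComplex (BigSite.Ab Ke S) ℤ :=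
  CochainComplex.of (trSh f I P) (trDSh f I P)
    (fun n => Sheaf.hom_ext (NatTrans.ext (funext fun T => AddCommGrpCat.hom_ext (AddMonoidHom.ext fun z =>
      trD_trD f I P n T.unop z))))

theorem trCx_d (P : ℕ) (n : ℤ) : (trCx f I P).d n (n + 1) = trDSh f I P n := CochainComplex.of_d _ _ n

/-- the projection of the total complex -/
def totToTr (P : ℕ) : totShCx f I ⟶ trCx f I P where
  f n := ⟨{ app := fun T => AddCommGrpCat.ofHom (resX f I P n T.unop)
            naturality := fun T T' a => rfl }⟩
  comm' := by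
    rintro i j (rfl : i + 1 = j)
    rw [trCx_d]
    refine Sheaf.hom_ext (NatTrans.ext (funext fun T => AddCommGrpCat.hom_ext (AddMonoidHom.ext fun z => ?_)))
    show trD f I P i T.unop (resX f I P i T.unop z) =
      resX f I P (i + 1) T.unop (((totCx (datum f) (preCx I)).d i (i + 1)).app T z)
    rw [trD_resX]
    exact congrArg _ (totCx_d_app (datum f) (preCx I) i T.unop z).symm

theorem isIso_totToTr_f [I.IsStrictlyGE 0] (P : ℕ) (n : ℤ) (hn : n ≤ P) : IsIso ((totToTr f I P).f n) := by
  haveI : ∀ T, IsIso (((totToTr f I P).f n).hom.app T) := fun T =>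
    (ConcreteCategory.isIso_iff_bijective _).2 ⟨fun z z' e => by
      funext p j h
      by_cases hp : p ≤ P
      · exact congrFun (congrFun (congrFun (congrFun (e : resX f I P n T.unop z = resX f I P n T.unop z') p) j) h) hp
      · haveI : Subsingleton ((I.X j).obj.obj (op (((datum f).Q p).obj T.unop))) :=
          AddCommGrpCat.subsingleton_of_isZero ((secF (((datum f).Q p).obj T.unop)).map_isZero
            (I.isZero_of_isStrictlyGE 0 j (by omega)))
        exact Subsingleton.elim (α := (I.X j).obj.obj (op (((datum f).Q p).obj T.unop))) _ _,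
      fun z => ⟨extX f I P n T.unop z, resX_extX f I P n T.unop z⟩⟩
  haveI : IsIso ((sheafToPresheaf _ _).map ((totToTr f I P).f n)) :=
    NatIso.isIso_of_isIso_app ((totToTr f I P).f n).hom
  exact isIso_of_fully_faithful (sheafToPresheaf _ _) _

/-- dropping the last column -/
def trNext (P : ℕ) : trCx f I (P + 1) ⟶ trCx f I P where
  f n := ⟨{ app := fun T => AddCommGrpCat.ofHom
              { toFun := fun z => fun p j h hp => z p j h (hp.trans (Nat.le_succ P))
                map_zero' := rfl, map_add' := fun _ _ => rfl }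
            naturality := fun T T' a => rfl }⟩
  comm' := by
    rintro i j (rfl : i + 1 = j)
    rw [trCx_d, trCx_d]
    refine Sheaf.hom_ext (NatTrans.ext (funext fun T => AddCommGrpCat.hom_ext (AddMonoidHom.ext fun z => ?_)))
    funext p j h hp
    refine totD_congr f I _ _ (P := P) (fun q k e hq => ?_) p j h hp
    exact (extX_apply f I P i T.unop _ q k e hq).trans (extX_apply f I (P + 1) i T.unop z q k e (by omega)).symm

/-- the first truncation is the first column -/
def trZero : trCx f I 0 ≅ colCx f I 0 :=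
  HomologicalComplex.Hom.isoOfComponents
    (fun n => (fullyFaithfulSheafToPresheaf _ _).preimageIso
      (NatIso.ofComponents
        (fun T => AddEquiv.toAddCommGrpIso
          ({ toFun := fun z => z 0 (n + -((0 : ℕ) : ℤ)) (by simp) le_rfl
             invFun := fun x => fun p j h hp => (Nat.le_zero.1 hp) ▸
               ((eqToHom (by rw [show j = n + -((0 : ℕ) : ℤ) by (have := Nat.le_zero.1 hp); omega]) :
                 (I.X (n + -((0 : ℕ) : ℤ))).obj.obj (op (((datum f).Q 0).obj T.unop)) ⟶
                   (I.X j).obj.obj (op (((datum f).Q 0).obj T.unop))) x)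
             left_inv := fun z => by
               funext p j h hp
               obtain rfl := Nat.le_zero.1 hp
               obtain rfl : j = n + -((0 : ℕ) : ℤ) := by omega
               simp
             right_inv := fun x => by simp
             map_add' := fun _ _ => rfl } :
            TrX f I 0 n T.unop ≃+ (I.X (n + -((0 : ℕ) : ℤ))).obj.obj (op (((datum f).Q 0).obj T.unop))))
        (fun {T T'} a => rfl)))
    (by
      rintro i j (rfl : i + 1 = j)
      rw [trCx_d]
      refine Sheaf.hom_ext (NatTrans.ext (funext fun T => AddCommGrpCat.hom_ext (AddMonoidHom.ext fun z => ?_)))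
      show (((-((0 : ℕ) : ℤ)).negOnePow : ℤ) • (I.d (i + -((0 : ℕ) : ℤ)) (i + 1 + -((0 : ℕ) : ℤ))).hom.app _
          (z 0 (i + -((0 : ℕ) : ℤ)) (by simp) le_rfl)) = trD f I 0 i T.unop z 0 (i + 1 + -((0 : ℕ) : ℤ)) (by simp) le_rfl
      have h1 : ∀ k (e : ((0 : ℕ) : ℤ) + k = i), k = i + -((0 : ℕ) : ℤ) →
          (I.d k (i + 1 + -((0 : ℕ) : ℤ))).hom.app (op (((datum f).Q 0).obj T.unop)) (extX f I 0 i T.unop z 0 k e) =
          (I.d (i + -((0 : ℕ) : ℤ)) (i + 1 + -((0 : ℕ) : ℤ))).hom.app _ (z 0 (i + -((0 : ℕ) : ℤ)) (by simp) le_rfl) := by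
        rintro k e rfl
        rw [extX_apply f I 0 i T.unop z 0 _ e le_rfl]
      refine Eq.trans ?_ ((totD_zero_apply (datum f) (preCx I) (extX f I 0 i T.unop z) _ _).trans
        (h1 _ (by simp) (by simp))).symm
      simp)

/-- a family in one column -/
def colIn (p : ℕ) (n : ℤ) (T : Over S) :
    (I.X (n + -(p : ℤ))).obj.obj (op (((datum f).Q p).obj T)) →+ TotX (datum f) (preCx I) n T where
  toFun x := oneCol (datum f) (preCx I) p fun j h =>
    (eqToHom (by rw [show j = n + -(p : ℤ) by omega]; rfl) :
      (I.X (n + -(p : ℤ))).obj.obj (op (((datum f).Q p).obj T)) ⟶ ((preCx I).X j).obj (op (((datum f).Q p).obj T))) x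
  map_zero' := by
    funext q j h
    by_cases e : q = p
    · subst e
      rw [oneCol_self, map_zero]
      rfl
    · rw [oneCol_ne _ _ _ _ q e]
      rfl
  map_add' x y := by
    funext q j h
    show _ = oneCol (datum f) (preCx I) p _ q j h + oneCol (datum f) (preCx I) p _ q j h
    by_cases e : q = p
    · subst e
      rw [oneCol_self, oneCol_self, oneCol_self, map_add]
    · rw [oneCol_ne _ _ _ _ q e, oneCol_ne _ _ _ _ q e, oneCol_ne _ _ _ _ q e, add_zero]

theorem colIn_self (p : ℕ) (n : ℤ) (T : Over S) (x : (I.X (n + -(p : ℤ))).obj.obj (op (((datum f).Q p).obj T)))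
    (h : (p : ℤ) + (n + -(p : ℤ)) = n) : colIn f I p n T x p (n + -(p : ℤ)) h = x :=
  by
  show oneCol (datum f) (preCx I) p (fun j h =>
    (eqToHom (by rw [show j = n + -(p : ℤ) by omega]; rfl) :
      (I.X (n + -(p : ℤ))).obj.obj (op (((datum f).Q p).obj T)) ⟶ ((preCx I).X j).obj (op (((datum f).Q p).obj T))) x)
    p (n + -(p : ℤ)) h = x
  rw [oneCol_self]
  simp

theorem colIn_ne (p : ℕ) (n : ℤ) (T : Over S) (x : (I.X (n + -(p : ℤ))).obj.obj (op (((datum f).Q p).obj T)))
    (q : ℕ) (hq : q ≠ p) (j : ℤ) (h : (q : ℤ) + j = n) : colIn f I p n T x q j h = 0 :=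
  oneCol_ne (datum f) (preCx I) p (fun j h =>
    (eqToHom (by rw [show j = n + -(p : ℤ) by omega]; rfl) :
      (I.X (n + -(p : ℤ))).obj.obj (op (((datum f).Q p).obj T)) ⟶ ((preCx I).X j).obj (op (((datum f).Q p).obj T))) x) q hq j h

/-- the last column -/
def colToTr (P : ℕ) : colCx f I (P + 1) ⟶ trCx f I (P + 1) where
  f n := ⟨{ app := fun T => AddCommGrpCat.ofHom ((resX f I (P + 1) n T.unop).comp (colIn f I (P + 1) n T.unop))
            naturality := fun T T' a => by
              refine AddCommGrpCat.hom_ext (AddMonoidHom.ext fun x => ?_)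
              funext p j h hp
              show colIn f I (P + 1) n T'.unop ((I.X (n + -((P + 1 : ℕ) : ℤ))).obj.map (((datum f).Q (P + 1)).map a.unop).op x) p j h =
                (I.X j).obj.map (((datum f).Q p).map a.unop).op (colIn f I (P + 1) n T.unop x p j h)
              by_cases e : p = P + 1
              · subst e
                obtain rfl : j = n + -((P + 1 : ℕ) : ℤ) := by omega
                rw [colIn_self, colIn_self]
              · rw [colIn_ne _ _ _ _ _ _ p e, colIn_ne _ _ _ _ _ _ p e, map_zero] }⟩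
  comm' := by
    rintro i j (rfl : i + 1 = j)
    rw [trCx_d]
    refine Sheaf.hom_ext (NatTrans.ext (funext fun T => AddCommGrpCat.hom_ext (AddMonoidHom.ext fun x => ?_)))
    funext p j h hp
    refine (totD_congr f I _ (colIn f I (P + 1) i T.unop x)
      (fun q k e hq => extX_apply f I (P + 1) i T.unop _ q k e hq) p j h hp).trans ?_
    show _ = colIn f I (P + 1) (i + 1) T.unop (((-((P + 1 : ℕ) : ℤ)).negOnePow : ℤ) •
      (I.d (i + -((P + 1 : ℕ) : ℤ)) (i + 1 + -((P + 1 : ℕ) : ℤ))).hom.app (op (((datum f).Q (P + 1)).obj T.unop)) x) p j h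
    by_cases e : p = P + 1
    · subst e
      obtain rfl : j = i + 1 + -((P + 1 : ℕ) : ℤ) := by omega
      rw [colIn_self, totD_succ_apply, colIn_ne _ _ _ _ _ _ P (by omega), map_zero, zero_add, Int.negOnePow_neg]
      have h1 : ∀ k (e : ((P + 1 : ℕ) : ℤ) + k = i), k = i + -((P + 1 : ℕ) : ℤ) →
          (I.d k (i + 1 + -((P + 1 : ℕ) : ℤ))).hom.app (op (((datum f).Q (P + 1)).obj T.unop))
            (colIn f I (P + 1) i T.unop x (P + 1) k e) =
          (I.d (i + -((P + 1 : ℕ) : ℤ)) (i + 1 + -((P + 1 : ℕ) : ℤ))).hom.app _ x := by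
        rintro k e rfl
        rw [colIn_self]
        rfl
      exact congrArg (_ • ·) (h1 _ (by omega) (by omega))
    · rw [colIn_ne _ _ _ _ _ _ p e]
      cases p with
      | zero =>
        rw [totD_zero_apply, colIn_ne _ _ _ _ _ _ 0 e, map_zero]
      | succ q =>
        rw [totD_succ_apply, colIn_ne _ _ _ _ _ _ q (by omega), colIn_ne _ _ _ _ _ _ (q + 1) e, map_zero, map_zero,
          smul_zero, add_zero]

theorem colToTr_trNext (P : ℕ) : colToTr f I P ≫ trNext f I P = 0 := by
  ext n : 1
  refine Sheaf.hom_ext (NatTrans.ext (funext fun T => AddCommGrpCat.hom_ext (AddMonoidHom.ext fun x => ?_)))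
  funext p j h hp
  exact colIn_ne f I (P + 1) n T.unop x p (show p ≠ P + 1 by omega) j h

theorem shortExact_colToTr (P : ℕ) : (ShortComplex.mk _ _ (colToTr_trNext f I P)).ShortExact := by
  refine HomologicalComplex.shortExact_of_degreewise_shortExact _ fun n => ?_
  haveI : Mono ((colToTr f I P).f n) := by
    haveI : ∀ T, Mono (((sheafToPresheaf _ _).map ((colToTr f I P).f n)).app T) := fun T =>
      (AddCommGrpCat.mono_iff_injective _).2 fun x y hxy => by
        have e := congrFun (congrFun (congrFun (congrFun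
          (hxy : resX f I (P + 1) n T.unop _ = resX f I (P + 1) n T.unop _) (P + 1)) (n + -((P + 1 : ℕ) : ℤ)))
            (by omega)) le_rfl
        exact (colIn_self f I (P + 1) n T.unop x (by omega)).symm.trans
          ((e : colIn f I (P + 1) n T.unop x _ _ _ = colIn f I (P + 1) n T.unop y _ _ _).trans
            (colIn_self f I (P + 1) n T.unop y (by omega)))
    haveI := NatTrans.mono_of_mono_app ((sheafToPresheaf _ _).map ((colToTr f I P).f n))
    exact (sheafToPresheaf _ _).mono_of_mono_map this
  refine { exact := ?_, mono_f := ‹_›, epi_g := ?_ }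
  · refine (exact_iff_locally _).2 fun T z hz => ⟨⊤, GrothendieckTopology.top_mem _ _, fun T' a _ => ?_⟩
    let zz : TrX f I (P + 1) n T' := trMap f I (P + 1) n a z
    refine ⟨zz (P + 1) (n + -((P + 1 : ℕ) : ℤ)) (by omega) le_rfl, ?_⟩
    funext p j h hp
    show colIn f I (P + 1) n T' (zz (P + 1) (n + -((P + 1 : ℕ) : ℤ)) (by omega) le_rfl) p j h = zz p j h hp
    by_cases e : p = P + 1
    · subst e
      obtain rfl : j = n + -((P + 1 : ℕ) : ℤ) := by omega
      rw [colIn_self]
    · rw [colIn_ne _ _ _ _ _ _ p e]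
      have hz' := congrFun (congrFun (congrFun (congrFun
        (hz : (fun (q : ℕ) (k : ℤ) (h' : (q : ℤ) + k = n) (hq : q ≤ P) => (z : TrX f I (P + 1) n T) q k h' (hq.trans (Nat.le_succ P))) = 0)
          p) j) h) (by omega)
      exact ((map_zero _).symm.trans (congrArg ((I.X j).obj.map (((datum f).Q p).map a).op) hz'.symm))
  · show Epi ((trNext f I P).f n)
    haveI : Sheaf.IsLocallySurjective ((trNext f I P).f n) := ⟨fun {T} z => by
      refine (QuotSh.J Ke S).superset_covering (fun U a _ => ?_) (GrothendieckTopology.top_mem _ _)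
      refine ⟨fun p j h hp => if hp' : p ≤ P then (I.X j).obj.map (((datum f).Q p).map a).op
        ((z : TrX f I P n T) p j h hp') else 0, ?_⟩
      funext p j h hp
      show (if hp' : p ≤ P then _ else 0) = _
      rw [dif_pos hp]
      rfl⟩
    exact Sheaf.epi_of_isLocallySurjective _

end Groth.L23.PhCmp
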